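import Cfsg.Agent.H35.Fi24T.OLab

set_option autoImplicit false
set_option linter.all false
set_option Elab.async false

namespace Cfsg.Agent.H35

theorem fi24_clschk_0 : allR fi24_clsf 306936 13 (0 * 2 ^ 13) = true := by decide +kernel
theorem fi24_clschk_1 : allR fi24_clsf 306936 13 (1 * 2 ^ 13) = true := by decide +kernel
theorem fi24_clschk_2 : allR fi24_clsf 306936 13 (2 * 2 ^ 13) = true := by decide +kernel
theorem fi24_clschk_3 : allR fi24_clsf 306936 13 (3 * 2 ^ 13) = true := by decide +kernel
theorem fi24_clschk_4 : allR fi24_clsf 306936 13 (4 * 2 ^ 13) = true := by decide +kernel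
theorem fi24_clschk_5 : allR fi24_clsf 306936 13 (5 * 2 ^ 13) = true := by decide +kernel
theorem fi24_clschk_6 : allR fi24_clsf 306936 13 (6 * 2 ^ 13) = true := by decide +kernel
theorem fi24_clschk_7 : allR fi24_clsf 306936 13 (7 * 2 ^ 13) = true := by decide +kernel
theorem fi24_clschk_8 : allR fi24_clsf 306936 13 (8 * 2 ^ 13) = true := by decide +kernel
theorem fi24_clschk_9 : allR fi24_clsf 306936 13 (9 * 2 ^ 13) = true := by decide +kernel
theorem fi24_clschk_10 : allR fi24_clsf 306936 13 (10 * 2 ^ 13) = true := by decide +kernel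
theorem fi24_clschk_11 : allR fi24_clsf 306936 13 (11 * 2 ^ 13) = true := by decide +kernel
theorem fi24_clschk_12 : allR fi24_clsf 306936 13 (12 * 2 ^ 13) = true := by decide +kernel
theorem fi24_clschk_13 : allR fi24_clsf 306936 13 (13 * 2 ^ 13) = true := by decide +kernel
theorem fi24_clschk_14 : allR fi24_clsf 306936 13 (14 * 2 ^ 13) = true := by decide +kernel
theorem fi24_clschk_15 : allR fi24_clsf 306936 13 (15 * 2 ^ 13) = true := by decide +kernel
theorem fi24_clschk_16 : allR fi24_clsf 306936 13 (16 * 2 ^ 13) = true := by decide +kernel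
theorem fi24_clschk_17 : allR fi24_clsf 306936 13 (17 * 2 ^ 13) = true := by decide +kernel
theorem fi24_clschk_18 : allR fi24_clsf 306936 13 (18 * 2 ^ 13) = true := by decide +kernel
theorem fi24_clschk_19 : allR fi24_clsf 306936 13 (19 * 2 ^ 13) = true := by decide +kernel
theorem fi24_clschk_20 : allR fi24_clsf 306936 13 (20 * 2 ^ 13) = true := by decide +kernel
theorem fi24_clschk_21 : allR fi24_clsf 306936 13 (21 * 2 ^ 13) = true := by decide +kernel
theorem fi24_clschk_22 : allR fi24_clsf 306936 13 (22 * 2 ^ 13) = true := by decide +kernel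
theorem fi24_clschk_23 : allR fi24_clsf 306936 13 (23 * 2 ^ 13) = true := by decide +kernel
theorem fi24_clschk_24 : allR fi24_clsf 306936 13 (24 * 2 ^ 13) = true := by decide +kernel
theorem fi24_clschk_25 : allR fi24_clsf 306936 13 (25 * 2 ^ 13) = true := by decide +kernel
theorem fi24_clschk_26 : allR fi24_clsf 306936 13 (26 * 2 ^ 13) = true := by decide +kernel
theorem fi24_clschk_27 : allR fi24_clsf 306936 13 (27 * 2 ^ 13) = true := by decide +kernel
theorem fi24_clschk_28 : allR fi24_clsf 306936 13 (28 * 2 ^ 13) = true := by decide +kernel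
theorem fi24_clschk_29 : allR fi24_clsf 306936 13 (29 * 2 ^ 13) = true := by decide +kernel
theorem fi24_clschk_30 : allR fi24_clsf 306936 13 (30 * 2 ^ 13) = true := by decide +kernel
theorem fi24_clschk_31 : allR fi24_clsf 306936 13 (31 * 2 ^ 13) = true := by decide +kernel
theorem fi24_clschk_32 : allR fi24_clsf 306936 13 (32 * 2 ^ 13) = true := by decide +kernel
theorem fi24_clschk_33 : allR fi24_clsf 306936 13 (33 * 2 ^ 13) = true := by decide +kernel
theorem fi24_clschk_34 : allR fi24_clsf 306936 13 (34 * 2 ^ 13) = true := by decide +kernel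
theorem fi24_clschk_35 : allR fi24_clsf 306936 13 (35 * 2 ^ 13) = true := by decide +kernel
theorem fi24_clschk_36 : allR fi24_clsf 306936 13 (36 * 2 ^ 13) = true := by decide +kernel
theorem fi24_clschk_37 : allR fi24_clsf 306936 13 (37 * 2 ^ 13) = true := by decide +kernel

theorem fi24_cls_allp : ∀ p, p < 306936 → fi24_clsf p = true := by
  apply allR_blocks fi24_clsf 306936 13 38 _ (by decide)
  intro k hk
  interval_cases k
  · exact fi24_clschk_0
  · exact fi24_clschk_1
  · exact fi24_clschk_2
  · exact fi24_clschk_3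
  · exact fi24_clschk_4
  · exact fi24_clschk_5
  · exact fi24_clschk_6
  · exact fi24_clschk_7
  · exact fi24_clschk_8
  · exact fi24_clschk_9
  · exact fi24_clschk_10
  · exact fi24_clschk_11
  · exact fi24_clschk_12
  · exact fi24_clschk_13
  · exact fi24_clschk_14
  · exact fi24_clschk_15
  · exact fi24_clschk_16
  · exact fi24_clschk_17
  · exact fi24_clschk_18
  · exact fi24_clschk_19
  · exact fi24_clschk_20
  · exact fi24_clschk_21
  · exact fi24_clschk_22
  · exact fi24_clschk_23
  · exact fi24_clschk_24
  · exact fi24_clschk_25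
  · exact fi24_clschk_26
  · exact fi24_clschk_27
  · exact fi24_clschk_28
  · exact fi24_clschk_29
  · exact fi24_clschk_30
  · exact fi24_clschk_31
  · exact fi24_clschk_32
  · exact fi24_clschk_33
  · exact fi24_clschk_34
  · exact fi24_clschk_35
  · exact fi24_clschk_36
  · exact fi24_clschk_37

end Cfsg.Agent.H35
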