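import Cfsg.Agent.H10.WG
import Cfsg.Agent.H35.Fi24Glue

/-!
# Sub-presentations of the Fi24 presentation (helper35; generated)
-/

set_option autoImplicit false

namespace Cfsg.Agent.H35

open Cfsg.Spor

def y5v1_rws : List (List Fi24.Gen × List Fi24.Gen) := [
  ([.l], [.l]),
  ([.l, .k, .l], [.k, .l, .k]),
  ([.l, .a], [.a, .l]),
  ([.l, .b], [.b, .l]),
  ([.l, .c], [.c, .l]),
  ([.l, .d], [.d, .l]),
  ([.l, .e], [.e, .l]),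
  ([.l, .f], [.f, .l]),
  ([.l, .h], [.h, .l]),
  ([.l, .i], [.i, .l]),
  ([.k, .l, .k], [.l, .k, .l]),
  ([.k], [.k]),
  ([.k, .a, .k], [.a, .k, .a]),
  ([.k, .b], [.b, .k]),
  ([.k, .c], [.c, .k]),
  ([.k, .d], [.d, .k]),
  ([.k, .e], [.e, .k]),
  ([.k, .f], [.f, .k]),
  ([.k, .h], [.h, .k]),
  ([.k, .i], [.i, .k]),
  ([.a, .l], [.l, .a]),
  ([.a, .k, .a], [.k, .a, .k]),
  ([.a], [.a]),
  ([.a, .b, .a], [.b, .a, .b]),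
  ([.a, .c], [.c, .a]),
  ([.a, .d], [.d, .a]),
  ([.a, .e], [.e, .a]),
  ([.a, .f], [.f, .a]),
  ([.a, .h], [.h, .a]),
  ([.a, .i], [.i, .a]),
  ([.b, .l], [.l, .b]),
  ([.b, .k], [.k, .b]),
  ([.b, .a, .b], [.a, .b, .a]),
  ([.b], [.b]),
  ([.b, .c, .b], [.c, .b, .c]),
  ([.b, .d], [.d, .b]),
  ([.b, .e], [.e, .b]),
  ([.b, .f], [.f, .b]),
  ([.b, .h], [.h, .b]),
  ([.b, .i], [.i, .b]),
  ([.c, .l], [.l, .c]),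
  ([.c, .k], [.k, .c]),
  ([.c, .a], [.a, .c]),
  ([.c, .b, .c], [.b, .c, .b]),
  ([.c], [.c]),
  ([.c, .d, .c], [.d, .c, .d]),
  ([.c, .e], [.e, .c]),
  ([.c, .f], [.f, .c]),
  ([.c, .h], [.h, .c]),
  ([.c, .i], [.i, .c]),
  ([.d, .l], [.l, .d]),
  ([.d, .k], [.k, .d]),
  ([.d, .a], [.a, .d]),
  ([.d, .b], [.b, .d]),
  ([.d, .c, .d], [.c, .d, .c]),
  ([.d], [.d]),
  ([.d, .e, .d], [.e, .d, .e]),
  ([.d, .f], [.f, .d]),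
  ([.d, .h, .d], [.h, .d, .h]),
  ([.d, .i], [.i, .d]),
  ([.e, .l], [.l, .e]),
  ([.e, .k], [.k, .e]),
  ([.e, .a], [.a, .e]),
  ([.e, .b], [.b, .e]),
  ([.e, .c], [.c, .e]),
  ([.e, .d, .e], [.d, .e, .d]),
  ([.e], [.e]),
  ([.e, .f, .e], [.f, .e, .f]),
  ([.e, .h], [.h, .e]),
  ([.e, .i], [.i, .e]),
  ([.f, .l], [.l, .f]),
  ([.f, .k], [.k, .f]),
  ([.f, .a], [.a, .f]),
  ([.f, .b], [.b, .f]),
  ([.f, .c], [.c, .f]),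
  ([.f, .d], [.d, .f]),
  ([.f, .e, .f], [.e, .f, .e]),
  ([.f], [.f]),
  ([.f, .h], [.h, .f]),
  ([.f, .i], [.i, .f]),
  ([.h, .l], [.l, .h]),
  ([.h, .k], [.k, .h]),
  ([.h, .a], [.a, .h]),
  ([.h, .b], [.b, .h]),
  ([.h, .c], [.c, .h]),
  ([.h, .d, .h], [.d, .h, .d]),
  ([.h, .e], [.e, .h]),
  ([.h, .f], [.f, .h]),
  ([.h], [.h]),
  ([.h, .i, .h], [.i, .h, .i]),
  ([.i, .l], [.l, .i]),
  ([.i, .k], [.k, .i]),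
  ([.i, .a], [.a, .i]),
  ([.i, .b], [.b, .i]),
  ([.i, .c], [.c, .i]),
  ([.i, .d], [.d, .i]),
  ([.i, .e], [.e, .i]),
  ([.i, .f], [.f, .i]),
  ([.i, .h, .i], [.h, .i, .h]),
  ([.i], [.i]),
  ([.l, .h, .f, .e, .d, .c, .b, .a, .h, .f, .e, .d, .c, .b, .a, .h, .f, .e, .d, .c, .b, .a, .h, .f, .e, .d, .c, .b, .a, .h, .f, .e], [.a, .b, .c, .d, .e, .f, .h, .a, .b, .c, .d, .e, .f, .h, .a, .b, .c, .d, .e, .f, .h, .a, .b, .c, .d, .e, .f, .h, .a, .b, .c, .d]),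
  ([.g], []),
  ([.j], [])]
def y5v1_prels : List (List Fi24.Gen × ℕ × ℕ) := []
def y5v1_S (x : Fi24.Gen) : Bool := decide (x ∈ ([.l, .k, .a, .b, .c, .d, .e, .f, .h, .i] : List Fi24.Gen))

def y5v2_rws : List (List Fi24.Gen × List Fi24.Gen) := [
  ([.l], [.l]),
  ([.l, .k, .l], [.k, .l, .k]),
  ([.l, .a], [.a, .l]),
  ([.l, .b], [.b, .l]),
  ([.l, .c], [.c, .l]),
  ([.l, .d], [.d, .l]),
  ([.l, .e], [.e, .l]),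
  ([.l, .f], [.f, .l]),
  ([.l, .h], [.h, .l]),
  ([.k, .l, .k], [.l, .k, .l]),
  ([.k], [.k]),
  ([.k, .a, .k], [.a, .k, .a]),
  ([.k, .b], [.b, .k]),
  ([.k, .c], [.c, .k]),
  ([.k, .d], [.d, .k]),
  ([.k, .e], [.e, .k]),
  ([.k, .f], [.f, .k]),
  ([.k, .h], [.h, .k]),
  ([.a, .l], [.l, .a]),
  ([.a, .k, .a], [.k, .a, .k]),
  ([.a], [.a]),
  ([.a, .b, .a], [.b, .a, .b]),
  ([.a, .c], [.c, .a]),
  ([.a, .d], [.d, .a]),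
  ([.a, .e], [.e, .a]),
  ([.a, .f], [.f, .a]),
  ([.a, .h], [.h, .a]),
  ([.b, .l], [.l, .b]),
  ([.b, .k], [.k, .b]),
  ([.b, .a, .b], [.a, .b, .a]),
  ([.b], [.b]),
  ([.b, .c, .b], [.c, .b, .c]),
  ([.b, .d], [.d, .b]),
  ([.b, .e], [.e, .b]),
  ([.b, .f], [.f, .b]),
  ([.b, .h], [.h, .b]),
  ([.c, .l], [.l, .c]),
  ([.c, .k], [.k, .c]),
  ([.c, .a], [.a, .c]),
  ([.c, .b, .c], [.b, .c, .b]),
  ([.c], [.c]),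
  ([.c, .d, .c], [.d, .c, .d]),
  ([.c, .e], [.e, .c]),
  ([.c, .f], [.f, .c]),
  ([.c, .h], [.h, .c]),
  ([.d, .l], [.l, .d]),
  ([.d, .k], [.k, .d]),
  ([.d, .a], [.a, .d]),
  ([.d, .b], [.b, .d]),
  ([.d, .c, .d], [.c, .d, .c]),
  ([.d], [.d]),
  ([.d, .e, .d], [.e, .d, .e]),
  ([.d, .f], [.f, .d]),
  ([.d, .h, .d], [.h, .d, .h]),
  ([.e, .l], [.l, .e]),
  ([.e, .k], [.k, .e]),
  ([.e, .a], [.a, .e]),
  ([.e, .b], [.b, .e]),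
  ([.e, .c], [.c, .e]),
  ([.e, .d, .e], [.d, .e, .d]),
  ([.e], [.e]),
  ([.e, .f, .e], [.f, .e, .f]),
  ([.e, .h], [.h, .e]),
  ([.f, .l], [.l, .f]),
  ([.f, .k], [.k, .f]),
  ([.f, .a], [.a, .f]),
  ([.f, .b], [.b, .f]),
  ([.f, .c], [.c, .f]),
  ([.f, .d], [.d, .f]),
  ([.f, .e, .f], [.e, .f, .e]),
  ([.f], [.f]),
  ([.f, .h], [.h, .f]),
  ([.h, .l], [.l, .h]),
  ([.h, .k], [.k, .h]),
  ([.h, .a], [.a, .h]),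
  ([.h, .b], [.b, .h]),
  ([.h, .c], [.c, .h]),
  ([.h, .d, .h], [.d, .h, .d]),
  ([.h, .e], [.e, .h]),
  ([.h, .f], [.f, .h]),
  ([.h], [.h]),
  ([.l, .h, .f, .e, .d, .c, .b, .a, .h, .f, .e, .d, .c, .b, .a, .h, .f, .e, .d, .c, .b, .a, .h, .f, .e, .d, .c, .b, .a, .h, .f, .e], [.a, .b, .c, .d, .e, .f, .h, .a, .b, .c, .d, .e, .f, .h, .a, .b, .c, .d, .e, .f, .h, .a, .b, .c, .d, .e, .f, .h, .a, .b, .c, .d]),
  ([.g], []),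
  ([.j], []),
  ([.i], [])]
def y5v2_prels : List (List Fi24.Gen × ℕ × ℕ) := []
def y5v2_S (x : Fi24.Gen) : Bool := decide (x ∈ ([.l, .k, .a, .b, .c, .d, .e, .f, .h] : List Fi24.Gen))

def y5v3_rws : List (List Fi24.Gen × List Fi24.Gen) := [
  ([.l], [.l]),
  ([.l, .a], [.a, .l]),
  ([.l, .b], [.b, .l]),
  ([.l, .c], [.c, .l]),
  ([.l, .d], [.d, .l]),
  ([.l, .e], [.e, .l]),
  ([.l, .f], [.f, .l]),
  ([.l, .h], [.h, .l]),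
  ([.a, .l], [.l, .a]),
  ([.a], [.a]),
  ([.a, .b, .a], [.b, .a, .b]),
  ([.a, .c], [.c, .a]),
  ([.a, .d], [.d, .a]),
  ([.a, .e], [.e, .a]),
  ([.a, .f], [.f, .a]),
  ([.a, .h], [.h, .a]),
  ([.b, .l], [.l, .b]),
  ([.b, .a, .b], [.a, .b, .a]),
  ([.b], [.b]),
  ([.b, .c, .b], [.c, .b, .c]),
  ([.b, .d], [.d, .b]),
  ([.b, .e], [.e, .b]),
  ([.b, .f], [.f, .b]),
  ([.b, .h], [.h, .b]),
  ([.c, .l], [.l, .c]),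
  ([.c, .a], [.a, .c]),
  ([.c, .b, .c], [.b, .c, .b]),
  ([.c], [.c]),
  ([.c, .d, .c], [.d, .c, .d]),
  ([.c, .e], [.e, .c]),
  ([.c, .f], [.f, .c]),
  ([.c, .h], [.h, .c]),
  ([.d, .l], [.l, .d]),
  ([.d, .a], [.a, .d]),
  ([.d, .b], [.b, .d]),
  ([.d, .c, .d], [.c, .d, .c]),
  ([.d], [.d]),
  ([.d, .e, .d], [.e, .d, .e]),
  ([.d, .f], [.f, .d]),
  ([.d, .h, .d], [.h, .d, .h]),
  ([.e, .l], [.l, .e]),
  ([.e, .a], [.a, .e]),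
  ([.e, .b], [.b, .e]),
  ([.e, .c], [.c, .e]),
  ([.e, .d, .e], [.d, .e, .d]),
  ([.e], [.e]),
  ([.e, .f, .e], [.f, .e, .f]),
  ([.e, .h], [.h, .e]),
  ([.f, .l], [.l, .f]),
  ([.f, .a], [.a, .f]),
  ([.f, .b], [.b, .f]),
  ([.f, .c], [.c, .f]),
  ([.f, .d], [.d, .f]),
  ([.f, .e, .f], [.e, .f, .e]),
  ([.f], [.f]),
  ([.f, .h], [.h, .f]),
  ([.h, .l], [.l, .h]),
  ([.h, .a], [.a, .h]),
  ([.h, .b], [.b, .h]),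
  ([.h, .c], [.c, .h]),
  ([.h, .d, .h], [.d, .h, .d]),
  ([.h, .e], [.e, .h]),
  ([.h, .f], [.f, .h]),
  ([.h], [.h]),
  ([.l, .h, .f, .e, .d, .c, .b, .a, .h, .f, .e, .d, .c, .b, .a, .h, .f, .e, .d, .c, .b, .a, .h, .f, .e, .d, .c, .b, .a, .h, .f, .e], [.a, .b, .c, .d, .e, .f, .h, .a, .b, .c, .d, .e, .f, .h, .a, .b, .c, .d, .e, .f, .h, .a, .b, .c, .d, .e, .f, .h, .a, .b, .c, .d]),
  ([.k], []),
  ([.g], []),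
  ([.j], []),
  ([.i], [])]
def y5v3_prels : List (List Fi24.Gen × ℕ × ℕ) := []
def y5v3_S (x : Fi24.Gen) : Bool := decide (x ∈ ([.l, .a, .b, .c, .d, .e, .f, .h] : List Fi24.Gen))

def y5v4_rws : List (List Fi24.Gen × List Fi24.Gen) := [
  ([.b], [.b]),
  ([.b, .c, .b], [.c, .b, .c]),
  ([.b, .d], [.d, .b]),
  ([.b, .e], [.e, .b]),
  ([.b, .f], [.f, .b]),
  ([.b, .h], [.h, .b]),
  ([.c, .b, .c], [.b, .c, .b]),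
  ([.c], [.c]),
  ([.c, .d, .c], [.d, .c, .d]),
  ([.c, .e], [.e, .c]),
  ([.c, .f], [.f, .c]),
  ([.c, .h], [.h, .c]),
  ([.d, .b], [.b, .d]),
  ([.d, .c, .d], [.c, .d, .c]),
  ([.d], [.d]),
  ([.d, .e, .d], [.e, .d, .e]),
  ([.d, .f], [.f, .d]),
  ([.d, .h, .d], [.h, .d, .h]),
  ([.e, .b], [.b, .e]),
  ([.e, .c], [.c, .e]),
  ([.e, .d, .e], [.d, .e, .d]),
  ([.e], [.e]),
  ([.e, .f, .e], [.f, .e, .f]),
  ([.e, .h], [.h, .e]),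
  ([.f, .b], [.b, .f]),
  ([.f, .c], [.c, .f]),
  ([.f, .d], [.d, .f]),
  ([.f, .e, .f], [.e, .f, .e]),
  ([.f], [.f]),
  ([.f, .h], [.h, .f]),
  ([.h, .b], [.b, .h]),
  ([.h, .c], [.c, .h]),
  ([.h, .d, .h], [.d, .h, .d]),
  ([.h, .e], [.e, .h]),
  ([.h, .f], [.f, .h]),
  ([.h], [.h]),
  ([.l], []),
  ([.k], []),
  ([.a], []),
  ([.g], []),
  ([.j], []),
  ([.i], [])]
def y5v4_prels : List (List Fi24.Gen × ℕ × ℕ) := []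
def y5v4_S (x : Fi24.Gen) : Bool := decide (x ∈ ([.b, .c, .d, .e, .f, .h] : List Fi24.Gen))

def y5v5_rws : List (List Fi24.Gen × List Fi24.Gen) := [
  ([.c], [.c]),
  ([.c, .d, .c], [.d, .c, .d]),
  ([.c, .e], [.e, .c]),
  ([.c, .f], [.f, .c]),
  ([.c, .h], [.h, .c]),
  ([.d, .c, .d], [.c, .d, .c]),
  ([.d], [.d]),
  ([.d, .e, .d], [.e, .d, .e]),
  ([.d, .f], [.f, .d]),
  ([.d, .h, .d], [.h, .d, .h]),
  ([.e, .c], [.c, .e]),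
  ([.e, .d, .e], [.d, .e, .d]),
  ([.e], [.e]),
  ([.e, .f, .e], [.f, .e, .f]),
  ([.e, .h], [.h, .e]),
  ([.f, .c], [.c, .f]),
  ([.f, .d], [.d, .f]),
  ([.f, .e, .f], [.e, .f, .e]),
  ([.f], [.f]),
  ([.f, .h], [.h, .f]),
  ([.h, .c], [.c, .h]),
  ([.h, .d, .h], [.d, .h, .d]),
  ([.h, .e], [.e, .h]),
  ([.h, .f], [.f, .h]),
  ([.h], [.h]),
  ([.l], []),
  ([.k], []),
  ([.a], []),
  ([.b], []),
  ([.g], []),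
  ([.j], []),
  ([.i], [])]
def y5v5_prels : List (List Fi24.Gen × ℕ × ℕ) := []
def y5v5_S (x : Fi24.Gen) : Bool := decide (x ∈ ([.c, .d, .e, .f, .h] : List Fi24.Gen))

end Cfsg.Agent.H35
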